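import Mathlib
import Cfsg.Agent.Lib.B6T.SB2
import Cfsg.Agent.Lib.StdA5.Gen
import Cfsg.Agent.Lib.B6S.TrB

/-! `dl² = 1`, `um = u1` is impossible. -/

set_option autoImplicit false
set_option maxRecDepth 100000

namespace H60M.A6

open Subgroup H69 H36.SW H80.PC

variable {G : Type*} [Group G] [Finite G]

namespace SF

theorem d1 : H54.allLt (fun c => H54.bor (Nat.beq (c / 4 % 2) 1) (H54.allLt (fun d =>
    H54.bor (Nat.beq (d / 4 % 2) 1) (Nat.beq (mu (PS false true) c d / 4 % 2) 0)) 512)) 512 = true := by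
  decide +kernel

theorem d1' {c d : ℕ} (hc : c < 512) (hd : d < 512) (h1 : c / 4 % 2 = 0) (h2 : d / 4 % 2 = 0) :
    mu (PS false true) c d / 4 % 2 = 0 := by
  have k := (H54.allLt_iff _ _).1 d1 c hc
  rw [H54.bor_eq_true, Nat.beq_eq] at k
  have k' := (H54.allLt_iff _ _).1 (k.resolve_left (by omega)) d hd
  rw [H54.bor_eq_true, Nat.beq_eq, Nat.beq_eq] at k'
  exact k'.resolve_left (by omega)

theorem d2 : ∀ c < 512, c / 4 % 2 = 0 → iv (PS false true) c / 4 % 2 = 0 := by decide +kernel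

theorem d3 : ∀ c < 512, c / 4 % 2 = 1 → mu (PS false true) c 4 / 4 % 2 = 0 ∧
    mu (PS false true) c 4 % 2 = c % 2 := by decide +kernel

theorem d4 : ∀ c < 512, c % 2 = 1 → mu (PS false true) c 1 % 2 = 0 ∧ mu (PS false true) c 5 % 2 = 0 := by
  decide +kernel

theorem d5 : ∀ a < 512, a % 2 + a / 4 % 2 + mu (PS false true) a a = 0 → a = 0 ∨
    (cj (PS false true) (lk (wS false true) a) (lk (rS false true) a) = a ∧
      lk (rS false true) a ∈ [2, 8, 32, 128, 256]) := by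
  decide +kernel

theorem d6 : ∀ c < 512, mu (PS false true) c 256 = mu (PS false true) 256 c := by decide +kernel

theorem lenP : 2 ^ (PS false true).length = 512 := by decide +kernel

variable {F : Fr G} {a b p q um η π : G}

/-- the elements of `S` without `t` -/
def M {xs : List G} (ok : Ok xs (PS false true)) : Subgroup G where
  carrier := {x | ∃ c < 512, c / 4 % 2 = 0 ∧ x = ev xs c}
  mul_mem' := by
    rintro _ _ ⟨c, hc, h1, rfl⟩ ⟨d, hd, h2, rfl⟩
    exact ⟨_, lenP ▸ mu_lt (PS false true) c d, d1' hc hd h1 h2, (ok.mul c d).symm⟩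
  one_mem' := ⟨0, by norm_num, by norm_num, (ev_zero xs).symm⟩
  inv_mem' := by
    rintro _ ⟨c, hc, h1, rfl⟩
    exact ⟨_, lenP ▸ iv_lt (PS false true) c, d2 c hc h1, (ok.inv c).symm⟩

omit [Finite G] in
theorem e1 (F : Fr G) (a b π : G) : ev (F.LS a b π) 1 = F.dl ∧ ev (F.LS a b π) 2 = π ∧ ev (F.LS a b π) 4 = F.t ∧
    ev (F.LS a b π) 5 = F.dl * F.t ∧ ev (F.LS a b π) 256 = F.z := by
  simp [Fr.LS, Fr.LU, ev]

theorem tE (h : F.TS a b p um η π) (he : F.dl * F.dl = 1) (hm : um = F.u1) : F.t ∉ F.E := by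
  have ok := h.okS (e := false) (m := true) he hm
  have e := e1 F a b π
  refine H60M.A7.thompson (M := M ok) F.En F.Es F.ncE F.tt h.syl ?_ ?_ ?_ ?_
  · rintro _ ⟨c, hc, -, rfl⟩
    exact h.memS.2 ⟨c, hc, rfl⟩
  · exact h.memS.2 ⟨4, by norm_num, e.2.2.1.symm⟩
  · intro s hs
    obtain ⟨c, hc, rfl⟩ := h.memS.1 hs
    rcases Nat.mod_two_eq_zero_or_one (c / 4) with k | k
    · exact Or.inl ⟨c, hc, k, rfl⟩
    · exact Or.inr ⟨_, lenP ▸ mu_lt (PS false true) c 4, (d3 c hc k).1, by rw [ok.mul, e.2.2.1]⟩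
  · rintro g ⟨c, hc, k, e'⟩
    have o : F.Om (g * F.t * g⁻¹) := ⟨g, rfl⟩
    obtain ⟨c', hc', e2, -, k2, -⟩ := h.omU (h.om01 he hm (h.memS.2 ⟨c, hc, e'⟩) o) o
    rw [← F.evS4 a b π, e'] at e2
    have := h.injS hc (by omega) e2
    omega

theorem zπ (h : F.TS a b p um η π) : F.Zc π := by
  obtain ⟨g, hg⟩ := h.πc
  have := h.tw.zp.cj g⁻¹
  rwa [← hg, show g⁻¹ * (g * π * g⁻¹) * g⁻¹⁻¹ = π by group] at this

theorem inE (h : F.TS a b p um η π) {c : ℕ} (hc : c < 512) (h0 : c % 2 = 0) (h1 : c / 4 % 2 = 0) :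
    ev (F.LS a b π) c ∈ F.E := by
  have k : ev (F.LU a b) (c / 2 / 2) ∈ F.E :=
    h.tw.UE (h.mem00.2 ⟨c / 8, by omega, by congr 1; omega⟩)
  rw [show c = 2 * (c / 2) by omega, Fr.LS, ev_bit0, ev]
  refine mul_mem ?_ k
  split_ifs
  · exact (zπ h).memE
  · exact one_mem _

/-- an involution of `E` outside `U0⟨π⟩` is conjugate to `z` -/
theorem zδ (h : F.TS a b p um η π) (he : F.dl * F.dl = 1) (hm : um = F.u1) {r : ℕ} (hr : r = 1 ∨ r = 5)
    (hE : ev (F.LS a b π) r ∈ F.E) (h2 : ev (F.LS a b π) r * ev (F.LS a b π) r = 1) :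
    F.Zc (ev (F.LS a b π) r) := by
  have ok := h.okS (e := false) (m := true) he hm
  have okM := h.okM (e := false) (m := true) he hm
  have lM : 2 ^ (π :: F.LU a b).length = 256 := by simp [Fr.LU]
  have memM : ∀ x : G, x ∈ closure {y | y ∈ π :: F.LU a b} ↔ ∃ c < 512, c % 2 = 0 ∧ x = ev (F.LS a b π) c := by
    intro x
    rw [okM.mem, lM]
    constructor
    · rintro ⟨c, hc, rfl⟩
      exact ⟨2 * c, by omega, by omega, by rw [Fr.LS, ev_bit0]⟩
    · rintro ⟨c, hc, k, rfl⟩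
      exact ⟨c / 2, by omega, by rw [show c = 2 * (c / 2) by omega, Fr.LS, ev_bit0]; congr 1; omega⟩
  have r512 : r < 512 := by omega
  have ne : ev (F.LS a b π) r ≠ 1 := fun k => by
    have := h.injS r512 (by norm_num : 0 < 512) (k.trans (ev_zero _).symm)
    omega
  have ex : ∃ g, g * ev (F.LS a b π) r * g⁻¹ ∈ closure {y | y ∈ π :: F.LU a b} := by
    by_contra hn
    simp only [not_exists] at hn
    refine H60M.A7.thompson F.En F.Es F.ncE h2 h.syl ?_ (h.memS.2 ⟨r, r512, rfl⟩) ?_ hn hE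
    · intro x hx
      obtain ⟨c, hc, -, e⟩ := (memM x).1 hx
      exact h.memS.2 ⟨c, hc, e⟩
    · intro s hs
      obtain ⟨c, hc, rfl⟩ := h.memS.1 hs
      rcases Nat.mod_two_eq_zero_or_one c with k | k
      · exact Or.inl ((memM _).2 ⟨c, hc, k, rfl⟩)
      · refine Or.inr ((memM _).2 ⟨_, lenP ▸ mu_lt (PS false true) c r, ?_, (ok.mul c r).symm⟩)
        rcases hr with rfl | rfl
        · exact (d4 c hc k).1
        · exact (d4 c hc k).2
  obtain ⟨g, hg⟩ := ex
  obtain ⟨c, hc, k0, e⟩ := (memM _).1 hg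
  have xE : ev (F.LS a b π) c ∈ F.E := e ▸ F.En.conj_mem _ hE g
  have k1 : c / 4 % 2 = 0 := by
    rcases Nat.mod_two_eq_zero_or_one (c / 4) with k | k
    · exact k
    · have k2 := inE h (lenP ▸ mu_lt (PS false true) c 4) ((d3 c hc k).2.trans k0) (d3 c hc k).1
      rw [ok.mul, (e1 F a b π).2.2.1] at k2
      exact absurd ((mul_mem_cancel_left xE).1 k2) (tE h he hm)
  have x2 : ev (F.LS a b π) c * ev (F.LS a b π) c = 1 := by
    rw [← e]
    calc _ = g * (ev (F.LS a b π) r * ev (F.LS a b π) r) * g⁻¹ := by group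
      _ = 1 := by rw [h2]; group
  have x1 : ev (F.LS a b π) c ≠ 1 := by
    rw [← e]
    intro k
    apply ne
    calc _ = g⁻¹ * (g * ev (F.LS a b π) r * g⁻¹) * g := by group
      _ = 1 := by rw [k]; group
  have k2 : mu (PS false true) c c = 0 :=
    h.injS (lenP ▸ mu_lt (PS false true) c c) (by norm_num) (by rw [ok.mul, x2, ev_zero])
  have zc : F.Zc (ev (F.LS a b π) c) := by
    rcases d5 c hc (by rw [k0, k1, k2]) with k | ⟨k3, k4⟩
    · exact absurd (k ▸ ev_zero _) x1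
    · generalize lk (wS false true) c = w at k3
      generalize lk (rS false true) c = s at k3 k4
      have e3 := ok.cj w s
      rw [k3] at e3
      rw [e3]
      refine Fr.Zc.cj ?_ _
      have k5 : s = 2 ∨ ∃ c' < 64, s = 4 * (2 * c') := by
        simp only [List.mem_cons, List.not_mem_nil, or_false] at k4
        rcases k4 with k4 | k4 | k4 | k4 | k4
        · exact Or.inl k4
        · exact Or.inr ⟨1, by omega, by omega⟩
        · exact Or.inr ⟨4, by omega, by omega⟩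
        · exact Or.inr ⟨16, by omega, by omega⟩
        · exact Or.inr ⟨32, by omega, by omega⟩
      rcases k5 with rfl | ⟨c', hc', rfl⟩
      · rw [(e1 F a b π).2.1]; exact zπ h
      · rw [e3] at x1 x2
        rw [F.evS4] at x1 x2 ⊢
        refine h.tw.zc (h.mem00.2 ⟨c', hc', rfl⟩) ?_ ?_
        · generalize ev (F.LU a b) (2 * c') = y at x2
          generalize ev (F.LS a b π) w = n at x2
          calc y * y = n⁻¹ * (n * y * n⁻¹ * (n * y * n⁻¹)) * n := by group
            _ = 1 := by rw [x2]; group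
        · intro k
          apply x1
          rw [k]; group
  have := zc.cj g⁻¹
  rwa [← e, show g⁻¹ * (g * ev (F.LS a b π) r * g⁻¹) * g⁻¹⁻¹ = ev (F.LS a b π) r by group] at this

theorem fin (h : F.TS a b p um η π) (he : F.dl * F.dl = 1) (hm : um = F.u1) {x : G} (hx : x ∈ F.T)
    (zc : F.Zc (F.dl * x)) : False := by
  have ok := h.okS (e := false) (m := true) he hm
  obtain ⟨g, hg⟩ := zc
  have hz : ∀ s ∈ F.SS a b π, s * F.z = F.z * s := by
    intro s hs
    obtain ⟨c, hc, rfl⟩ := h.memS.1 hs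
    rw [← (e1 F a b π).2.2.2.2, ← ok.mul, ← ok.mul, d6 c hc]
  have ct : F.t * (F.dl * x) = F.dl * x * F.t := by
    rw [← mul_assoc, ← F.dlt, mul_assoc, mul_assoc, TrB.tc F hx]
  obtain ⟨k, -, k1, k2⟩ := H69.A5.ext_center h.syl hz (mem_top g⁻¹) (u := F.dl * x) (by rw [← hg]; group)
    (P := zpowers F.t) (P2.of_sq F.tt).zpowers le_top (by
      rintro _ ⟨n, rfl⟩
      exact ((show Commute F.t (F.dl * x) from ct).zpow_left n).eq)
  have tS : k * F.t * k⁻¹ ∈ F.SS a b π := by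
    apply k2
    rw [mem_cj, show k⁻¹ * (k * F.t * k⁻¹) * k = F.t by group]
    exact mem_zpowers _
  have o : F.Om (k * F.t * k⁻¹) := ⟨k, rfl⟩
  obtain ⟨c, hc, e2, c1, c2, c3⟩ := h.omU (h.om01 he hm tS o) o
  obtain ⟨n, hn, e3, -⟩ := h.tw.six hc c1 c2 c3
  refine F.nd h.d1 (n⁻¹ * k) ?_ x hx ?_
  · calc n⁻¹ * k * F.t = n⁻¹ * (k * F.t * k⁻¹) * k := by group
      _ = _ := by rw [e2, ← e3]; group
  · have : n⁻¹ * k * (F.dl * x) * (n⁻¹ * k)⁻¹ = n⁻¹ * F.z * n⁻¹⁻¹ := by rw [← k1]; group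
    rw [this]
    exact TrB.F0T F ((mem_normalizer_iff.1 (inv_mem (h.NF hn)) _).1 (TrB.mF F).1)

end SF

namespace Fr
variable {F : Fr G} {a b p q um η π : G}

theorem TS.sf (h : F.TS a b p um η π) (he : F.dl * F.dl = 1) (hm : um = F.u1) : False := by
  have e := SF.e1 F a b π
  rcases F.top F.dl with k | k
  · have := SF.zδ h he hm (Or.inl rfl) (e.1 ▸ k) (by rw [e.1, he])
    rw [e.1, ← mul_one F.dl] at this
    exact SF.fin h he hm (one_mem _) this
  · have := SF.zδ h he hm (Or.inr rfl) (e.2.2.2.1 ▸ k) (by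
      rw [e.2.2.2.1]
      calc F.dl * F.t * (F.dl * F.t) = F.dl * (F.t * F.dl) * F.t := by group
        _ = F.dl * F.dl * (F.t * F.t) := by rw [← F.dlt]; group
        _ = 1 := by rw [he, F.tt, one_mul])
    rw [e.2.2.2.1] at this
    exact SF.fin h he hm F.b2_tT this

end Fr

end H60M.A6
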